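import Mathlib

/-!
# First cotangent homology of field extensions
-/

set_option autoImplicit false
set_option backward.isDefEq.respectTransparency false
set_option maxHeartbeats 1000000
universe u

open TensorProduct MvPolynomial Algebra

noncomputable section

namespace Groth.Agent.H1FieldLib

theorem pderiv_rename_injective {k σ τ : Type u} [CommRing k] {f : σ → τ} (hf : Function.Injective f) (i : σ)
    (p : MvPolynomial σ k) : pderiv (f i) (rename f p) = rename f (pderiv i p) := by
  classical
  induction p using MvPolynomial.induction_on with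
  | C a => simp
  | add p q hp hq => simp [hp, hq]
  | mul_X p j hp =>
    simp only [map_mul, rename_X, Derivation.leibniz, hp, pderiv_X, smul_eq_mul, map_add]
    rcases eq_or_ne j i with rfl | hne
    · simp
    · simp [Pi.single_eq_of_ne hne, Pi.single_eq_of_ne (hf.ne hne)]

/-- Over a perfect field the first cotangent homology of every field extension vanishes. -/
theorem subsingleton_h1_of_perfect (k L : Type u) [Field k] [PerfectField k] [Field L] [Algebra k L] :
    Subsingleton (H1Cotangent k L) := by
  classical
  refine ⟨fun a b => ?_⟩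
  suffices h : ∀ x : H1Cotangent k L, x = 0 by rw [h a, h b]
  rintro ⟨x, hx⟩
  obtain ⟨⟨y, hy⟩, rfl⟩ := Extension.Cotangent.mk_surjective x
  obtain ⟨s, q, hq⟩ := MvPolynomial.exists_finset_rename (show MvPolynomial L k from y)
  let F := IntermediateField.adjoin k (s : Set L)
  haveI : Algebra.EssFiniteType k F :=
    IntermediateField.essFiniteType_iff.2 (IntermediateField.fg_adjoin_finset s)
  let g : {x // x ∈ s} → F := fun x => ⟨x.1, IntermediateField.subset_adjoin k _ x.2⟩
  let ι : F → L := Subtype.val
  have hι : Function.Injective ι := Subtype.val_injective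
  let y0 : MvPolynomial F k := rename g q
  have hy0 : (show MvPolynomial L k from y) = rename ι y0 := by
    rw [hq, rename_rename]
    rfl
  have hval : ∀ p : MvPolynomial F k, ((aeval (id : F → F) p : F) : L) = aeval (id : L → L) (rename ι p) := fun p => by
    rw [aeval_rename]
    exact (MvPolynomial.map_aeval (id : F → F) (algebraMap F L) p).trans (by
      rw [MvPolynomial.aeval_def, IsScalarTower.algebraMap_eq k F L]
      rfl)
  have hker : y0 ∈ (Generators.self k F).toExtension.ker := by
    show aeval (id : F → F) y0 = 0
    refine hι ?_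
    show ((aeval (id : F → F) y0 : F) : L) = _
    rw [hval, ← hy0]
    exact hy
  have hcx : (Generators.self k F).toExtension.cotangentComplex (.mk ⟨y0, hker⟩) = 0 := by
    apply (Generators.self k F).cotangentSpaceBasis.repr.injective
    ext i
    rw [map_zero, Extension.cotangentComplex_mk]
    erw [Generators.cotangentSpaceBasis_repr_one_tmul]
    show ((aeval (id : F → F) (pderiv i y0) : F) : L) = _
    rw [hval, ← pderiv_rename_injective hι, ← hy0]
    have h1 : (Generators.self k L).cotangentSpaceBasis.repr
        ((Generators.self k L).toExtension.cotangentComplex (.mk ⟨y, hy⟩)) (ι i) = 0 := by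
      rw [LinearMap.mem_ker.1 hx, map_zero, Finsupp.zero_apply]
    rw [Extension.cotangentComplex_mk] at h1
    erw [Generators.cotangentSpaceBasis_repr_one_tmul] at h1
    exact h1
  haveI : Subsingleton (H1Cotangent k F) := Algebra.FormallySmooth.subsingleton_h1Cotangent
  have h0 := @Subsingleton.elim (H1Cotangent k F) inferInstance ⟨_, hcx⟩ 0
  have h01 : Extension.Cotangent.mk (P := (Generators.self k F).toExtension) ⟨y0, hker⟩ = 0 := congrArg Subtype.val h0
  have hsq : y0 ∈ (Generators.self k F).toExtension.ker ^ 2 :=
    (Extension.Cotangent.mk_eq_zero_iff _).1 h01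
  refine Subtype.ext ((Extension.Cotangent.mk_eq_zero_iff ⟨y, hy⟩).2 ?_)
  have hmap : ((Generators.self k F).toExtension.ker).map (rename ι).toRingHom ≤
      (Generators.self k L).toExtension.ker := by
    rw [Ideal.map_le_iff_le_comap]
    intro p hp
    show aeval (id : L → L) (rename ι p) = 0
    rw [← hval, show aeval (id : F → F) p = 0 from hp]
    rfl
  let R : MvPolynomial F k →+* MvPolynomial L k := (rename ι).toRingHom
  have h2 : R y0 ∈ (Generators.self k L).toExtension.ker ^ 2 := by
    refine Ideal.pow_right_mono hmap 2 ?_
    rw [← Ideal.map_pow]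
    exact Ideal.mem_map_of_mem _ hsq
  have he : (show MvPolynomial L k from y) = R y0 := hy0
  show (show MvPolynomial L k from y) ∈ _
  rw [he]
  exact h2

theorem δAux_natural (k K L M : Type u) [CommRing k] [CommRing K] [CommRing L] [CommRing M] [Algebra k K] [Algebra K L]
    [Algebra L M] [Algebra K M] [IsScalarTower K L M] [Algebra k L] [IsScalarTower k K L] [Algebra k M]
    [IsScalarTower k K M] (p : MvPolynomial L K) :
    Generators.H1Cotangent.δAux k (Generators.self K M)
        ((Generators.defaultHom (Generators.self K L) (Generators.self K M)).toAlgHom p) =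
      LinearMap.rTensor Ω[K⁄k] (IsScalarTower.toAlgHom K L M).toLinearMap
        (Generators.H1Cotangent.δAux k (Generators.self K L) p) := by
  induction p using MvPolynomial.induction_on' with
  | monomial n r =>
    have hh : (Generators.defaultHom (Generators.self K L) (Generators.self K M)).toAlgHom (monomial n r) =
        (monomial (n.mapDomain (algebraMap L M)) r : MvPolynomial M K) := by
      rw [← rename_monomial]
      exact DFunLike.congr_fun (show (Generators.defaultHom (Generators.self K L) (Generators.self K M)).toAlgHom =
        (rename (algebraMap L M) : MvPolynomial L K →ₐ[K] MvPolynomial M K) from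
          MvPolynomial.algHom_ext fun i => by
            rw [Generators.Hom.toAlgHom_X, rename_X]
            rfl) _
    rw [hh, Generators.H1Cotangent.δAux_monomial, Generators.H1Cotangent.δAux_monomial]
    show _ = (IsScalarTower.toAlgHom K L M) (n.prod _) ⊗ₜ[K] _
    congr 1
    rw [map_finsuppProd, Finsupp.prod_mapDomain_index (fun _ => pow_zero _) (fun _ _ _ => pow_add _ _ _)]
    exact Finsupp.prod_congr fun i _ => (map_pow _ _ _).symm
  | add p q hp hq => rw [map_add, map_add, hp, hq, map_add, map_add]

theorem δ_of_val {R S T : Type u} [CommRing R] [CommRing S] [CommRing T] [Algebra R S] [Algebra S T] [Algebra R T]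
    [IsScalarTower R S T] {ι ι' : Type u} (Q : Generators S T ι) (P : Generators R S ι') (X : Q.toExtension.H1Cotangent)
    (z : Q.ker) (h : X.1 = Extension.Cotangent.mk z) :
    Generators.H1Cotangent.δ Q P X = Generators.H1Cotangent.δAux R Q z.1 := by
  obtain ⟨X, hX⟩ := X
  subst h
  exact Generators.H1Cotangent.δ_eq_δAux Q P z hX

theorem δ_natural (k K L M : Type u) [CommRing k] [CommRing K] [CommRing L] [CommRing M] [Algebra k K] [Algebra K L]
    [Algebra L M] [Algebra K M] [IsScalarTower K L M] [Algebra k L] [IsScalarTower k K L] [Algebra k M]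
    [IsScalarTower k K M] (x : H1Cotangent K L) :
    H1Cotangent.δ k K M (H1Cotangent.map K K L M x) =
      LinearMap.rTensor Ω[K⁄k] (IsScalarTower.toAlgHom K L M).toLinearMap (H1Cotangent.δ k K L x) := by
  obtain ⟨x, hx⟩ := x
  obtain ⟨⟨y, hy⟩, rfl⟩ := Extension.Cotangent.mk_surjective x
  let ρ := LinearMap.rTensor Ω[K⁄k] (IsScalarTower.toAlgHom K L M).toLinearMap
  let f := (Generators.defaultHom (Generators.self K L) (Generators.self K M))
  let X := H1Cotangent.map K K L M ⟨Extension.Cotangent.mk ⟨y, hy⟩, hx⟩
  have hfy : f.toAlgHom y ∈ (Generators.self K M).toExtension.ker := by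
    rw [RingHom.mem_ker] at hy ⊢
    have h1 := f.algebraMap_toAlgHom y
    exact h1.trans ((congrArg (algebraMap L M) hy).trans (map_zero _))
  have hX : X.1 = Extension.Cotangent.mk (P := (Generators.self K M).toExtension) ⟨f.toAlgHom y, hfy⟩ :=
    Extension.Cotangent.map_mk f.toExtensionHom ⟨y, hy⟩
  have h1 := δ_of_val (Generators.self K M) (Generators.self k K) X ⟨f.toAlgHom y, hfy⟩ hX
  have h2 := δ_of_val (Generators.self K L) (Generators.self k K) ⟨_, hx⟩ ⟨y, hy⟩ rfl
  refine h1.trans ((δAux_natural k K L M y).trans ?_)
  exact (congrArg ρ h2).symm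

theorem map_injective (K L M : Type u) [Field K] [Field L] [Field M] [Algebra K L] [Algebra L M] [Algebra K M]
    [IsScalarTower K L M] : Function.Injective ((Algebra.H1Cotangent.map K K L M).liftBaseChange M) := by
  classical
  let k := (⊥ : Subfield K)
  haveI : PerfectField k := by
    obtain ⟨p, hp⟩ := CharP.exists K
    rcases CharP.char_is_prime_or_zero K p with hpp | h0
    · haveI := Fact.mk hpp
      haveI : Finite k := Nat.finite_of_card_ne_zero (by rw [Subfield.card_bot K p]; exact hpp.ne_zero)
      infer_instance
    · subst h0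
      haveI : CharZero K := CharP.charP_to_charZero K
      infer_instance
  haveI : IsScalarTower k K L := IsScalarTower.of_algebraMap_eq fun _ => rfl
  haveI : IsScalarTower k K M := IsScalarTower.of_algebraMap_eq fun _ => rfl
  haveI := subsingleton_h1_of_perfect k L
  let dL := H1Cotangent.δ k K L
  have hdL : Function.Injective dL := by
    rw [← LinearMap.ker_eq_bot, (H1Cotangent.exact_map_δ k K L).linearMap_ker_eq]
    rw [LinearMap.range_eq_bot]
    exact LinearMap.ext fun z => by rw [Subsingleton.elim z 0, map_zero, map_zero]
  let ρ : L ⊗[K] Ω[K⁄k] →ₗ[K] M ⊗[K] Ω[K⁄k] :=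
    LinearMap.rTensor Ω[K⁄k] (IsScalarTower.toAlgHom K L M).toLinearMap
  have hnat : ∀ x : H1Cotangent K L, H1Cotangent.δ k K M (H1Cotangent.map K K L M x) = ρ (dL x) := δ_natural k K L M
  let e := AlgebraTensorModule.cancelBaseChange K L M M Ω[K⁄k]
  have hfac : ∀ z, H1Cotangent.δ k K M ((H1Cotangent.map K K L M).liftBaseChange M z) = e (dL.baseChange M z) := by
    intro z
    induction z using TensorProduct.induction_on with
    | zero => simp
    | add a b ha hb => simp only [map_add, ha, hb]
    | tmul m x =>
      rw [LinearMap.liftBaseChange_tmul, map_smul, hnat, LinearMap.baseChange_tmul]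
      induction dL x using TensorProduct.induction_on with
      | zero => simp
      | add a b ha hb => simp only [map_add, smul_add, tmul_add, ha, hb]
      | tmul l w =>
        show m • ((algebraMap L M l) ⊗ₜ[K] w) = e (m ⊗ₜ[L] (l ⊗ₜ[K] w))
        rw [AlgebraTensorModule.cancelBaseChange_tmul, TensorProduct.smul_tmul', smul_eq_mul, Algebra.smul_def, mul_comm]
  refine Function.Injective.of_comp (f := H1Cotangent.δ k K M) ?_
  rw [show ⇑(H1Cotangent.δ k K M) ∘ ⇑((H1Cotangent.map K K L M).liftBaseChange M) = ⇑e ∘ ⇑(dL.baseChange M) from
    funext hfac]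
  exact e.injective.comp (Module.Flat.lTensor_preserves_injective_linearMap (M := M) dL hdL)

end Groth.Agent.H1FieldLib
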